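import Cfsg.Agent.O83.CheckDefs

/-!
# Kernel evaluation of the checks
-/

set_option autoImplicit false

namespace Cfsg.Agent.O83

theorem blockCertXOK_0_0 : blockCertXOK 0 0 = true := by decide +kernel

theorem blockCertXOK_0_1 : blockCertXOK 0 1 = true := by decide +kernel

theorem blockCertXOK_0_2 : blockCertXOK 0 2 = true := by decide +kernel

theorem blockCertXOK_1_0 : blockCertXOK 1 0 = true := by decide +kernel

theorem blockCertXOK_1_1 : blockCertXOK 1 1 = true := by decide +kernel

theorem blockCertXOK_1_2 : blockCertXOK 1 2 = true := by decide +kernel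

theorem blockCertXOK_2_0 : blockCertXOK 2 0 = true := by decide +kernel

theorem blockCertXOK_2_1 : blockCertXOK 2 1 = true := by decide +kernel

theorem blockCertXOK_2_2 : blockCertXOK 2 2 = true := by decide +kernel

end Cfsg.Agent.O83
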