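import Cfsg.Agent.O83.CheckDefs

/-!
# Kernel evaluation of the checks
-/

set_option autoImplicit false

namespace Cfsg.Agent.O83

theorem blockCertXOK_3_0 : blockCertXOK 3 0 = true := by decide +kernel

theorem blockCertXOK_3_1 : blockCertXOK 3 1 = true := by decide +kernel

theorem blockCertXOK_3_2 : blockCertXOK 3 2 = true := by decide +kernel

theorem blockCertXOK_4_0 : blockCertXOK 4 0 = true := by decide +kernel

theorem blockCertXOK_4_1 : blockCertXOK 4 1 = true := by decide +kernel

theorem blockCertXOK_4_2 : blockCertXOK 4 2 = true := by decide +kernel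

end Cfsg.Agent.O83
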