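import Cfsg.Agent.O83.CheckDefs

/-!
# Kernel evaluation of the checks
-/

set_option autoImplicit false

namespace Cfsg.Agent.O83

theorem fixOK_0 : fixOK 0 = true := by decide +kernel

theorem fixOK_1 : fixOK 1 = true := by decide +kernel

theorem fixOK_2 : fixOK 2 = true := by decide +kernel

theorem fixOK_3 : fixOK 3 = true := by decide +kernel

theorem fixOK_4 : fixOK 4 = true := by decide +kernel

theorem fixOK_5 : fixOK 5 = true := by decide +kernel

theorem fixOK_6 : fixOK 6 = true := by decide +kernel

theorem fixOK_7 : fixOK 7 = true := by decide +kernel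

theorem fixOK_8 : fixOK 8 = true := by decide +kernel

theorem fixOK_9 : fixOK 9 = true := by decide +kernel

theorem fixOK_10 : fixOK 10 = true := by decide +kernel

theorem fixOK_11 : fixOK 11 = true := by decide +kernel

theorem fixOK_12 : fixOK 12 = true := by decide +kernel

end Cfsg.Agent.O83
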