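import Cfsg.Agent.O83.CheckDefs

/-!
# Kernel evaluation of the checks
-/

set_option autoImplicit false

namespace Cfsg.Agent.O83

theorem blockLOK_0 : blockLOK 0 = true := by decide +kernel

theorem blockLOK_1 : blockLOK 1 = true := by decide +kernel

theorem blockLOK_2 : blockLOK 2 = true := by decide +kernel

end Cfsg.Agent.O83
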