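import Cfsg.Agent.O83.CheckDefs

/-!
# Kernel evaluation of the checks
-/

set_option autoImplicit false

namespace Cfsg.Agent.O83

theorem blockQOK_0 : blockQOK 0 = true := by decide +kernel

theorem blockQOK_1 : blockQOK 1 = true := by decide +kernel

theorem blockQOK_2 : blockQOK 2 = true := by decide +kernel

theorem blockCertLOK_0 : blockCertLOK 0 = true := by decide +kernel

theorem blockCertLOK_1 : blockCertLOK 1 = true := by decide +kernel

theorem blockCertLOK_2 : blockCertLOK 2 = true := by decide +kernel

theorem genOK_all : ((List.range 48).all genOK) = true := by decide +kernel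

theorem rootsOK_all : (rootsOK lgens && rootsOK qgens && normOK) = true := by decide +kernel

end Cfsg.Agent.O83
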